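import Groth.Agent.Hensel.Colim
import Mathlib.Algebra.Category.Ring.Under.Basic
import Mathlib.CategoryTheory.Filtered.Final
import Mathlib.RingTheory.FinitePresentation

/-!
# Filtered systems of algebras, and a factorisation criterion for ind-étale algebras
-/

universe u

open CategoryTheory Limits TensorProduct

namespace Groth.Agent.IndEtLib

noncomputable section

/-- A filtered system of `R`-algebras with its colimit. -/
structure Sys (R : CommRingCat.{u}) where
  J : Type u
  [cat : SmallCategory J]
  [filt : IsFiltered J]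
  D : J ⥤ Under R
  c : Cocone D
  hc : IsColimit c

attribute [instance] Sys.cat Sys.filt

variable {R : CommRingCat.{u}}

instance algebraOf (A : Type u) [CommRing A] (X : CategoryTheory.Under (CommRingCat.of A)) :
    Algebra A X.right :=
  RingHom.toAlgebra X.hom.hom

namespace Sys

variable (S : Sys R)

/-- the algebra at a stage -/
abbrev A (j : S.J) : Type u := (S.D.obj j).right

/-- the colimit algebra -/
abbrev pt : Type u := S.c.pt.right

/-- transition maps -/
abbrev tr {i j : S.J} (f : i ⟶ j) : S.A i →ₐ[R] S.A j := CommRingCat.toAlgHom (S.D.map f)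

/-- the map to the colimit -/
abbrev ι (j : S.J) : S.A j →ₐ[R] S.pt := CommRingCat.toAlgHom (S.c.ι.app j)

theorem ι_tr {i j : S.J} (f : i ⟶ j) : (S.ι j).comp (S.tr f) = S.ι i := by
  rw [← CommRingCat.toAlgHom_comp, S.c.w f]

theorem ι_tr_apply {i j : S.J} (f : i ⟶ j) (x : S.A i) : S.ι j (S.tr f x) = S.ι i x :=
  AlgHom.congr_fun (S.ι_tr f) x

theorem tr_comp {i j k : S.J} (f : i ⟶ j) (g : j ⟶ k) : S.tr (f ≫ g) = (S.tr g).comp (S.tr f) := by
  rw [← CommRingCat.toAlgHom_comp, ← S.D.map_comp]

theorem tr_comp_apply {i j k : S.J} (f : i ⟶ j) (g : j ⟶ k) (x : S.A i) :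
    S.tr (f ≫ g) x = S.tr g (S.tr f x) :=
  AlgHom.congr_fun (S.tr_comp f g) x

def forgetIsColimit :
    IsColimit ((Under.forget R ⋙ forget CommRingCat.{u}).mapCocone S.c) :=
  have : IsConnected S.J := IsFiltered.isConnected _
  isColimitOfPreserves _ S.hc

theorem surj (x : S.pt) : ∃ (j : S.J) (y : S.A j), S.ι j y = x :=
  Types.jointly_surjective_of_isColimit S.forgetIsColimit x

theorem eq {i : S.J} {x y : S.A i} (h : S.ι i x = S.ι i y) :
    ∃ (k : S.J) (f : i ⟶ k), S.tr f x = S.tr f y :=
  (Types.FilteredColimit.isColimit_eq_iff' S.forgetIsColimit x y).1 h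

theorem eq_zero {i : S.J} {x : S.A i} (h : S.ι i x = 0) : ∃ (k : S.J) (f : i ⟶ k), S.tr f x = 0 := by
  obtain ⟨k, f, h⟩ := S.eq (h.trans (map_zero (S.ι i)).symm)
  exact ⟨k, f, h.trans (map_zero _)⟩

theorem exists_lift_finset {α : Type*} (s : Finset α) (x : α → S.pt) :
    ∃ (j : S.J) (y : α → S.A j), ∀ a ∈ s, S.ι j (y a) = x a := by
  classical
  induction s using Finset.induction_on with
  | empty => exact ⟨IsFiltered.nonempty.some, fun _ => 0, by simp⟩
  | insert b s hb ih =>
    obtain ⟨j, y, hy⟩ := ih
    obtain ⟨k, z, hz⟩ := S.surj (x b)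
    refine ⟨IsFiltered.max j k, fun a => if a = b then S.tr (IsFiltered.rightToMax j k) z
      else S.tr (IsFiltered.leftToMax j k) (y a), fun a ha => ?_⟩
    dsimp only
    by_cases hab : a = b
    · subst hab; rw [if_pos rfl, ι_tr_apply, hz]
    · rw [if_neg hab, ι_tr_apply, hy a ((Finset.mem_insert.1 ha).resolve_left hab)]

theorem exists_eq_finset {α : Type*} (s : Finset α) {i : S.J} (x y : α → S.A i)
    (h : ∀ a ∈ s, S.ι i (x a) = S.ι i (y a)) :
    ∃ (k : S.J) (f : i ⟶ k), ∀ a ∈ s, S.tr f (x a) = S.tr f (y a) := by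
  classical
  induction s using Finset.induction_on with
  | empty => exact ⟨i, 𝟙 i, by simp⟩
  | insert b s hb ih =>
    obtain ⟨j, f, hf⟩ := ih fun a ha => h a (Finset.mem_insert_of_mem ha)
    obtain ⟨k, g, hg⟩ := S.eq (x := S.tr f (x b)) (y := S.tr f (y b))
      (by rw [ι_tr_apply, ι_tr_apply]; exact h b (Finset.mem_insert_self _ _))
    refine ⟨k, f ≫ g, fun a ha => ?_⟩
    rw [tr_comp_apply, tr_comp_apply]
    rcases Finset.mem_insert.1 ha with rfl | ha
    · exact hg
    · rw [hf a ha]

/-- maps out of a finitely presented algebra factor through a stage -/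
theorem exists_lift (P : Type u) [CommRing P] [Algebra R P] [Algebra.FinitePresentation R P]
    (φ : P →ₐ[R] S.pt) : ∃ (j : S.J) (ψ : P →ₐ[R] S.A j), (S.ι j).comp ψ = φ := by
  classical
  obtain ⟨n, π, hπ, hker⟩ := Algebra.FinitePresentation.out (R := R) (A := P)
  obtain ⟨t, ht⟩ := hker
  obtain ⟨j, y, hy⟩ := S.exists_lift_finset (Finset.univ : Finset (Fin n)) fun a => φ (π (.X a))
  let χ : MvPolynomial (Fin n) R →ₐ[R] S.A j := MvPolynomial.aeval y
  have hχ : (S.ι j).comp χ = φ.comp π := MvPolynomial.algHom_ext fun a => by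
    simp [χ, hy a (Finset.mem_univ a)]
  obtain ⟨k, f, hf⟩ := S.exists_eq_finset t (fun r => χ r) (fun _ => 0) fun r hr => by
    have hr0 : π r = 0 := RingHom.mem_ker.1 (ht.le (Submodule.subset_span hr))
    rw [map_zero, ← AlgHom.comp_apply, hχ, AlgHom.comp_apply, hr0, map_zero]
  have hle : RingHom.ker π ≤ RingHom.ker ((S.tr f).comp χ) := by
    refine ht.ge.trans (Submodule.span_le.2 fun r hr => ?_)
    exact RingHom.mem_ker.2 ((hf r hr).trans (map_zero _))
  let ψ := AlgHom.liftOfSurjective π hπ ((S.tr f).comp χ) hle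
  refine ⟨k, ψ, AlgHom.ext fun p => ?_⟩
  obtain ⟨q, rfl⟩ := hπ p
  rw [AlgHom.comp_apply]
  refine (congrArg (S.ι k) (AlgHom.liftOfSurjective_apply π hπ _ hle q)).trans ?_
  rw [AlgHom.comp_apply, ι_tr_apply,
    ← AlgHom.comp_apply, hχ, AlgHom.comp_apply]

/-- two maps out of a finitely generated algebra agree later -/
theorem exists_eq (P : Type u) [CommRing P] [Algebra R P] [Algebra.FiniteType R P] {i : S.J}
    (α β : P →ₐ[R] S.A i) (h : (S.ι i).comp α = (S.ι i).comp β) :
    ∃ (k : S.J) (f : i ⟶ k), (S.tr f).comp α = (S.tr f).comp β := by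
  obtain ⟨s, hs⟩ := Algebra.FiniteType.out (R := R) (A := P)
  obtain ⟨k, f, hf⟩ := S.exists_eq_finset s (fun a => α a) (fun a => β a) fun a _ => AlgHom.congr_fun h a
  exact ⟨k, f, AlgHom.ext_of_adjoin_eq_top hs fun a ha => hf a ha⟩

/-- base change of a system -/
def baseChange (T : CommRingCat.{u}) [Algebra R T] : Sys T :=
  have : PreservesColimitsOfShape S.J (CommRingCat.tensorProd R T) :=
    have : PreservesColimitsOfSize.{u, u} (Under.pushout (CommRingCat.ofHom (algebraMap R T))) :=
      (Under.mapPushoutAdj _).leftAdjoint_preservesColimits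
    preservesColimitsOfShape_of_natIso (CommRingCat.tensorProdIsoPushout R T).symm
  { J := S.J
    D := S.D ⋙ CommRingCat.tensorProd R T
    c := (CommRingCat.tensorProd R T).mapCocone S.c
    hc := isColimitOfPreserves _ S.hc }

/-- restriction of scalars of a system -/
def restrict {R' : CommRingCat.{u}} (g : R' ⟶ R) : Sys R' :=
  { J := S.J
    D := S.D ⋙ Under.map g
    c := (Under.map g).mapCocone S.c
    hc :=
      have : IsConnected S.J := IsFiltered.isConnected _
      isColimitOfReflects (Under.forget R')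
        (show IsColimit ((Under.forget R).mapCocone S.c) from isColimitOfPreserves _ S.hc) }

/-- the diagram of the stages above `i` as algebras over the `i`-th stage -/
def underD (i : S.J) : CategoryTheory.Under i ⥤ CategoryTheory.Under (S.D.obj i).right where
  obj k := CategoryTheory.Under.mk (S.D.map k.hom).right
  map {k l} f := CategoryTheory.Under.homMk (S.D.map f.right).right (by
    change (S.D.map k.hom).right ≫ (S.D.map f.right).right = (S.D.map l.hom).right
    rw [← CategoryTheory.Under.comp_right, ← S.D.map_comp, CategoryTheory.Under.w])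

/-- the system above a stage -/
def under (i : S.J) : Sys (S.D.obj i).right :=
  { J := CategoryTheory.Under i
    D := S.underD i
    c :=
      { pt := CategoryTheory.Under.mk (S.c.ι.app i).right
        ι :=
          { app := fun k => CategoryTheory.Under.homMk (S.c.ι.app k.right).right (by
              change (S.D.map k.hom).right ≫ (S.c.ι.app k.right).right = (S.c.ι.app i).right
              rw [← CategoryTheory.Under.comp_right, S.c.w])
            naturality := fun k l f => by
              ext : 1
              change (S.D.map f.right).right ≫ (S.c.ι.app l.right).right = (S.c.ι.app k.right).right ≫ 𝟙 _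
              rw [Category.comp_id, ← CategoryTheory.Under.comp_right, S.c.w] } }
    hc :=
      have : IsConnected S.J := IsFiltered.isConnected _
      have : IsConnected (CategoryTheory.Under i) := IsFiltered.isConnected _
      isColimitOfReflects (Under.forget _) (IsColimit.ofIsoColimit
        ((Functor.Final.isColimitWhiskerEquiv (CategoryTheory.Under.forget i)
          ((Under.forget R).mapCocone S.c)).symm (isColimitOfPreserves _ S.hc))
        (Cocone.ext (Iso.refl _) fun k => Category.comp_id _)) }

end Sys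

/-- the system of an ind-étale algebra -/
theorem exists_sys {A B : Type u} [CommRing A] [CommRing B] [Algebra A B] (h : EtPBC.IsIndEtale A B) :
    ∃ S : Sys (CommRingCat.of A), (∀ j, Algebra.Etale A (S.A j)) ∧ Nonempty (S.pt ≃ₐ[A] B) := by
  obtain ⟨J, _, _, D, c, hc, hD, ⟨i⟩⟩ := h
  refine ⟨⟨J, D, c, hc⟩, hD, ⟨AlgEquiv.ofRingEquiv
    (f := ((Under.forget _).mapIso i).commRingCatIsoToRingEquiv) fun a => ?_⟩⟩
  exact ConcreteCategory.congr_hom (CategoryTheory.Under.w i.hom) a

/-- `B` is ind-étale as soon as maps from finitely presented algebras factor through étale ones. -/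
theorem isIndEtale_of_factor {A B : Type u} [CommRing A] [CommRing B] [Algebra A B]
    (h : ∀ (P : Type u) [CommRing P] [Algebra A P] [Algebra.FinitePresentation A P] (φ : P →ₐ[A] B),
      ∃ (N : Type u) (_ : CommRing N) (_ : Algebra A N) (_ : Algebra.Etale A N)
        (α : P →ₐ[A] N) (β : N →ₐ[A] B), β.comp α = φ) :
    EtPBC.IsIndEtale A B := by
  let c : Cocone (Hensel.nbhdDiagram A B) :=
    { pt := CategoryTheory.Under.mk (CommRingCat.ofHom (algebraMap A B))
      ι :=
        { app := fun X => CategoryTheory.Under.homMk (CommRingCat.ofHom X.N.toK.toRingHom) (by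
            ext r; exact X.N.toK.commutes r)
          naturality := fun X Y f => by
            apply CategoryTheory.Under.UnderMorphism.ext
            ext b
            exact congr($(f.2) b) } }
  have : IsConnected (Hensel.NbhdCat A B) := IsFiltered.isConnected _
  have : PreservesColimit (Hensel.nbhdDiagram A B ⋙ Under.forget _) (forget CommRingCat.{u}) :=
    inferInstance
  have : ReflectsColimit (Hensel.nbhdDiagram A B ⋙ Under.forget _) (forget CommRingCat.{u}) :=
    reflectsColimit_of_reflectsIsomorphisms _ _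
  have hc : IsColimit c := by
    refine isColimitOfReflects (Under.forget _) (isColimitOfReflects (forget CommRingCat.{u}) ?_)
    refine Types.FilteredColimit.isColimitOf' _ _ (fun z => ?_) fun X (x : X.N.B) (y : X.N.B) hxy => ?_
    · obtain ⟨N, _, _, _, α, β, hαβ⟩ := h (Polynomial A) (Polynomial.aeval (z : B))
      obtain ⟨M, e, he⟩ := Hensel.Nbhd.exists_equiv N β
      refine ⟨⟨M⟩, e.symm (α Polynomial.X), ?_⟩
      change z = M.toK (e.symm (α Polynomial.X))
      rw [he, AlgHom.comp_apply, AlgEquiv.toAlgHom_apply, AlgEquiv.apply_symm_apply, ← AlgHom.comp_apply, hαβ]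
      exact (Polynomial.aeval_X (R := A) (A := B) z).symm
    · have hxy' : X.N.toK x = X.N.toK y := hxy
      let I : Ideal X.N.B := Ideal.span {x - y}
      haveI : Algebra.FinitePresentation A (X.N.B ⧸ I) :=
        Algebra.FinitePresentation.quotient (Submodule.fg_span_singleton _)
      let φ : (X.N.B ⧸ I) →ₐ[A] B := Ideal.Quotient.liftₐ I X.N.toK fun a ha => by
        obtain ⟨r, rfl⟩ := Ideal.mem_span_singleton'.1 ha
        rw [map_mul, map_sub, hxy', sub_self, mul_zero]
      obtain ⟨N, _, _, _, α, β, hαβ⟩ := h _ φ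
      obtain ⟨M, e, he⟩ := Hensel.Nbhd.exists_equiv N β
      have hγ : M.toK.comp ((e.symm.toAlgHom.comp α).comp (Ideal.Quotient.mkₐ A I)) = X.N.toK := by
        ext a
        simp only [AlgHom.comp_apply, he, AlgEquiv.toAlgHom_apply, AlgEquiv.apply_symm_apply]
        rw [← AlgHom.comp_apply β α, hαβ]
        rfl
      refine ⟨⟨M⟩, ⟨(e.symm.toAlgHom.comp α).comp (Ideal.Quotient.mkₐ A I), hγ⟩, ?_⟩
      change e.symm (α (Ideal.Quotient.mk I x)) = e.symm (α (Ideal.Quotient.mk I y))
      rw [show Ideal.Quotient.mk I x = Ideal.Quotient.mk I y from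
        Ideal.Quotient.eq.2 (Ideal.subset_span rfl)]
  refine ⟨Hensel.NbhdCat A B, inferInstance, inferInstance, Hensel.nbhdDiagram A B, c, hc, fun X => ?_,
    ⟨Iso.refl _⟩⟩
  show letI := (algebraMap A X.N.B).toAlgebra; Algebra.Etale A X.N.B
  rw [toAlgebra_algebraMap]
  infer_instance

end

end Groth.Agent.IndEtLib
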