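import Groth.Agent.IndEtLib.Sys
import Mathlib.RingTheory.LocalIso
import Mathlib.RingTheory.Localization.Away.Basic

/-!
# Localizations are ind-Zariski
-/

universe u

open CategoryTheory Limits

namespace Groth.Agent.IndEtLib

noncomputable section

variable {A : Type u} [CommRing A]

/-- the index category of a localization -/
def LocIdx (M : Submonoid A) : Type u := M

variable {M : Submonoid A}

/-- the element of an index -/
def LocIdx.el (m : LocIdx M) : A := Subtype.val m

/-- the stage -/
abbrev LocIdx.Stage (m : LocIdx M) : Type u := Localization.Away m.el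

instance : Preorder (LocIdx M) where
  le m m' := IsUnit (algebraMap A m'.Stage m.el)
  le_refl m := IsLocalization.Away.algebraMap_isUnit (S := m.Stage) m.el
  le_trans a b c hab hbc := by
    let g : b.Stage →ₐ[A] c.Stage :=
      IsLocalization.Away.liftAlgHom (A := A) b.el (f := Algebra.ofId A c.Stage) hbc
    rw [← g.commutes a.el]
    exact hab.map g

instance : Nonempty (LocIdx M) := ⟨(⟨1, one_mem M⟩ : M)⟩

theorem le_of_dvd {m m' : LocIdx M} (h : m.el ∣ m'.el) : m ≤ m' :=
  isUnit_of_dvd_unit (map_dvd (algebraMap A m'.Stage) h)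
    (IsLocalization.Away.algebraMap_isUnit (S := m'.Stage) m'.el)

instance : IsDirectedOrder (LocIdx M) :=
  ⟨fun m m' => ⟨(⟨m.el * m'.el, mul_mem (Subtype.prop m) (Subtype.prop m')⟩ : M),
    le_of_dvd ⟨_, rfl⟩, le_of_dvd ⟨_, mul_comm m.el m'.el⟩⟩⟩

/-- transition -/
def LocIdx.tr {m m' : LocIdx M} (h : m ≤ m') : m.Stage →ₐ[A] m'.Stage :=
  IsLocalization.Away.liftAlgHom (A := A) m.el (f := Algebra.ofId A m'.Stage) h

/-- the map to the localization -/
def LocIdx.toLoc (B : Type u) [CommRing B] [Algebra A B] [IsLocalization M B] (m : LocIdx M) :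
    m.Stage →ₐ[A] B :=
  IsLocalization.Away.liftAlgHom (A := A) m.el (f := Algebra.ofId A B)
    (IsLocalization.map_units B (m : M))

theorem stage_hom_ext {T : Type u} [CommRing T] [Algebra A T] {m : LocIdx M} (f g : m.Stage →ₐ[A] T) : f = g :=
  IsLocalization.algHom_ext (Submonoid.powers m.el) (Subsingleton.elim _ _)

variable (M) in
/-- the diagram -/
def locDiagram : LocIdx M ⥤ CategoryTheory.Under (CommRingCat.of A) where
  obj m := CommRingCat.mkUnder (CommRingCat.of A) m.Stage
  map f := (LocIdx.tr f.le).toUnder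
  map_id m := by
    rw [stage_hom_ext (LocIdx.tr (𝟙 m : m ⟶ m).le) (AlgHom.id A _)]; rfl
  map_comp {a b c} f g := by
    rw [stage_hom_ext (LocIdx.tr (f ≫ g).le) ((LocIdx.tr g.le).comp (LocIdx.tr f.le))]; rfl

/-- the cocone to the localization -/
def locCocone (M : Submonoid A) (B : Type u) [CommRing B] [Algebra A B] [IsLocalization M B] :
    Cocone (locDiagram M) :=
  { pt := CategoryTheory.Under.mk (CommRingCat.ofHom (algebraMap A B))
    ι :=
      { app := fun m => (LocIdx.toLoc B m).toUnder
        naturality := fun m m' f => by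
          ext1
          ext x
          exact AlgHom.congr_fun (stage_hom_ext ((LocIdx.toLoc B m').comp (LocIdx.tr f.le)) (LocIdx.toLoc B m)) x } }

/-- the localization is the colimit -/
theorem nonempty_isColimit_locCocone (M : Submonoid A) (B : Type u) [CommRing B] [Algebra A B]
    [IsLocalization M B] : Nonempty (IsColimit (locCocone M B)) := by
  have : IsConnected (LocIdx M) := IsFiltered.isConnected _
  have : PreservesColimit (locDiagram M ⋙ Under.forget _) (forget CommRingCat.{u}) := inferInstance
  have : ReflectsColimit (locDiagram M ⋙ Under.forget _) (forget CommRingCat.{u}) :=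
    reflectsColimit_of_reflectsIsomorphisms _ _
  refine ⟨?_⟩
  refine isColimitOfReflects (Under.forget _) (isColimitOfReflects (forget CommRingCat.{u}) ?_)
  refine Types.FilteredColimit.isColimitOf' _ _ (fun z => ?_) fun m (x : m.Stage) (y : m.Stage) hxy => ?_
  · obtain ⟨⟨a, s⟩, rfl⟩ := IsLocalization.mk'_surjective M (show B from z)
    let m : LocIdx M := s
    refine ⟨m, IsLocalization.mk' m.Stage a (⟨m.el, 1, pow_one _⟩ : Submonoid.powers m.el), ?_⟩
    change IsLocalization.mk' B a s = LocIdx.toLoc B m _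
    refine (IsLocalization.mk'_eq_iff_eq_mul (z := LocIdx.toLoc B m _)).2 ?_
    rw [← (LocIdx.toLoc B m).commutes a, ← (LocIdx.toLoc B m).commutes (s : A), ← map_mul]
    congr 1
    exact (IsLocalization.mk'_spec m.Stage a _).symm
  · replace hxy : LocIdx.toLoc B m x = LocIdx.toLoc B m y := hxy
    obtain ⟨⟨a, t⟩, ha⟩ := IsLocalization.surj (Submonoid.powers m.el) (x - y)
    have h0 : algebraMap A B a = 0 := by
      rw [← (LocIdx.toLoc B m).commutes a, ← ha, map_mul, map_sub, hxy, sub_self, zero_mul]
    obtain ⟨c, hc⟩ := (IsLocalization.map_eq_zero_iff M B a).1 h0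
    let m' : LocIdx M := (⟨m.el * (c : A), mul_mem (Subtype.prop m) c.2⟩ : M)
    have hm : m ≤ m' := le_of_dvd ⟨_, rfl⟩
    have huc : IsUnit (algebraMap A m'.Stage (c : A)) :=
      isUnit_of_dvd_unit (map_dvd (algebraMap A m'.Stage) ⟨m.el, mul_comm m.el (c : A)⟩)
        (IsLocalization.Away.algebraMap_isUnit (S := m'.Stage) m'.el)
    refine ⟨m', homOfLE hm, ?_⟩
    change LocIdx.tr hm x = LocIdx.tr hm y
    rw [← sub_eq_zero, ← map_sub]
    have h1 : algebraMap A m'.Stage a = 0 := by
      have := congrArg (algebraMap A m'.Stage) hc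
      rwa [map_mul, map_zero, huc.mul_right_eq_zero] at this
    have h2 := congrArg (LocIdx.tr hm) ha
    rw [map_mul, AlgHom.commutes, AlgHom.commutes, h1] at h2
    refine (IsUnit.mul_left_eq_zero ?_).1 h2
    obtain ⟨n, hn⟩ := t.2
    rw [← hn, map_pow]
    exact IsUnit.pow n hm

theorem isIndZariski_localization (M : Submonoid A) (B : Type u) [CommRing B] [Algebra A B]
    [IsLocalization M B] : EtPBC.IsIndZariski A B := by
  obtain ⟨hc⟩ := nonempty_isColimit_locCocone M B
  refine ⟨LocIdx M, inferInstance, inferInstance, locDiagram M, locCocone M B, hc, fun m => ?_, ⟨Iso.refl _⟩⟩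
  show letI := (algebraMap A m.Stage).toAlgebra; Algebra.IsLocalIso A m.Stage
  rw [toAlgebra_algebraMap]
  infer_instance

/-- maps from finitely presented algebras to a localization factor through some `A_c` -/
theorem exists_lift_away (M : Submonoid A) (B : Type u) [CommRing B] [Algebra A B] [IsLocalization M B]
    (P : Type u) [CommRing P] [Algebra A P] [Algebra.FinitePresentation A P] (φ : P →ₐ[A] B) :
    ∃ (m : LocIdx M) (ψ : P →ₐ[A] m.Stage), (LocIdx.toLoc B m).comp ψ = φ := by
  obtain ⟨hc⟩ := nonempty_isColimit_locCocone M B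
  let S : Sys (CommRingCat.of A) := ⟨LocIdx M, locDiagram M, locCocone M B, hc⟩
  let e : S.pt ≃ₐ[A] B := AlgEquiv.ofRingEquiv (f := RingEquiv.refl B) fun _ => rfl
  obtain ⟨m, ψ, h⟩ := S.exists_lift P (e.symm.toAlgHom.comp φ)
  refine ⟨m, { ψ.toRingHom with commutes' := fun a => ψ.commutes a }, AlgHom.ext fun x => ?_⟩
  exact AlgHom.congr_fun h x

end

end Groth.Agent.IndEtLib
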